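set_option autoImplicit false
namespace Cfsg.Agent.Lib.Helper6.TCD.M11a
noncomputable def GT (i : Nat) : Nat := Nat.land (Nat.shiftRight 0x71000064000033000030000021000020000014000012000011000000000000 (Nat.mul 24 (Nat.land i 1023))) 16777215
end Cfsg.Agent.Lib.Helper6.TCD.M11a
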