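set_option autoImplicit false
namespace Cfsg.Agent.Lib.Helper6.TCD.M11a
noncomputable def NC (i : Nat) : Nat := Nat.land (Nat.shiftRight 0x100008000000000000000100001c000280004c000390000050000000000000000c0000c000000000000000000003000000000000000040000800000000000000000000200000000000000010000040001000020000cd30000100000000000000008000040000000000000001000010000000000000000000000000000000000000000000 (Nat.mul 86 (Nat.land i 511))) 77371252455336267181195263
end Cfsg.Agent.Lib.Helper6.TCD.M11a
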