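set_option autoImplicit false
namespace Cfsg.Agent.Lib.Helper6.TCD.M11a
noncomputable def P1 (i : Nat) : Nat := Nat.land (Nat.shiftRight 0x894a3571620 (Nat.mul 4 (Nat.land i 15))) 15
end Cfsg.Agent.Lib.Helper6.TCD.M11a
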