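set_option autoImplicit false
namespace Cfsg.Agent.Lib.Helper6.TCD.M11a
noncomputable def SC (i : Nat) : Nat := Nat.land (Nat.shiftRight 0x11c02000000100000001000010080000c0200043008000000100048008000000400034008000000000000000000000000035008000000100000004000000400000010001540200000010000cc0200000010000000400000000000000100000000000000400000004000040200015008000cc020000001000000040003700800000010004300800000010000001000028030000000000000010000000000000000000000000000000005c0080000000000000100000001000000000001003000000100000001000000000000000000000000000000000000000000000000000040000004000780080000004000770080000000 (Nat.mul 30 (Nat.land i 1023))) 1073741823
end Cfsg.Agent.Lib.Helper6.TCD.M11a
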