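import Cfsg.Agent.Lib.Helper6.TCD.M11a.SH
import Cfsg.Agent.Lib.Helper6.TCD.M11a.SC
import Cfsg.Agent.Lib.Helper6.TCD.M11a.NH
import Cfsg.Agent.Lib.Helper6.TCD.M11a.NC
import Cfsg.Agent.Lib.Helper6.TCD.M11a.WD
import Cfsg.Agent.Lib.Helper6.TCD.M11a.WI
import Cfsg.Agent.Lib.Helper6.TCD.M11a.P0
import Cfsg.Agent.Lib.Helper6.TCD.M11a.P1
import Cfsg.Agent.Lib.Helper6.TCD.M11a.P2
import Cfsg.Agent.Lib.Helper6.TCD.M11a.P3
import Cfsg.Agent.Lib.Helper6.TCD.M11a.P4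
import Cfsg.Agent.Lib.Helper6.TCD.M11a.GT
import Cfsg.Agent.Lib.Helper6.TCD.M11a.HR
import Cfsg.Agent.Lib.Helper6.TCD.M11a.Q2
import Cfsg.Agent.Lib.Helper6.TCD.M11a.Q3
set_option autoImplicit false
namespace Cfsg.Agent.Lib.Helper6.TCD.M11a
def n : Nat := 13
def ncol : Nat := 5
def nrw : Nat := 119
def nw : Nat := 121
def tmax : Nat := 60
def INV : Nat := 213280
def N : Nat := 11
noncomputable def px (c p : Nat) : Nat := Nat.rec (motive := fun _ => Nat) (P0 p) (fun k0 _ => Nat.rec (motive := fun _ => Nat) (P1 p) (fun k1 _ => Nat.rec (motive := fun _ => Nat) (P2 p) (fun k2 _ => Nat.rec (motive := fun _ => Nat) (P3 p) (fun k3 _ => P4 p) k2) k1) k0) c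
noncomputable def H0 (p : Nat) : Nat := P1 p
noncomputable def H1 (p : Nat) : Nat := P3 p
noncomputable def hsel (c p : Nat) : Nat := Nat.rec (motive := fun _ => Nat) (H0 p) (fun k0 _ => H1 p) c
noncomputable def lab (p : Nat) : Nat := Nat.land (HR p) 15
noncomputable def rnk (p : Nat) : Nat := Nat.shiftRight (HR p) 8
noncomputable def mv (p : Nat) : Nat := hsel (Nat.land (Nat.shiftRight (HR p) 4) 15) p
noncomputable def isRoot (p : Nat) : Bool := Bool.rec (Bool.rec (false) true (Nat.beq p 1)) true (Nat.beq p 0)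
noncomputable def R1 (p : Nat) : Nat := P1 (P1 (P1 (P1 p)))
noncomputable def U2 (p : Nat) : Nat := P1 (P0 p)
noncomputable def R2 (p : Nat) : Nat := Q2 (Q2 (Q2 (Q2 (Q2 (Q2 (Q2 (Q2 (Q2 (Q2 (Q2 p))))))))))
noncomputable def U3 (p : Nat) : Nat := P1 (P1 (P0 p))
noncomputable def R3 (p : Nat) : Nat := Q3 (Q3 (Q3 (Q3 (Q3 (Q3 p)))))
noncomputable def R4 (p : Nat) : Nat := P2 (P0 (P2 (P0 (P1 (P0 (P2 (P0 (P1 (P1 (P0 (P1 (P0 (P2 (P0 (P1 (P0 (P1 (P0 p))))))))))))))))))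
noncomputable def R5 (p : Nat) : Nat := P0 (P2 (P0 (P1 (P0 (P1 (P0 (P4 p)))))))
noncomputable def R6 (p : Nat) : Nat := P2 (P2 (P2 (P2 p)))
noncomputable def R7 (p : Nat) : Nat := P4 (P4 (P4 (P4 p)))
noncomputable def R8 (p : Nat) : Nat := P2 (P2 (P3 (P1 (P1 (P4 (P2 (P4 (P2 (P4 p)))))))))
noncomputable def R9 (p : Nat) : Nat := P2 (P2 (P4 (P4 (P2 (P4 (P2 (P3 (P2 (P4 (P2 (P4 (P4 p))))))))))))
noncomputable def R10 (p : Nat) : Nat := P2 (P1 p)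
noncomputable def R11 (p : Nat) : Nat := P4 (P3 p)
end Cfsg.Agent.Lib.Helper6.TCD.M11a
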