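set_option autoImplicit false
namespace Cfsg.Agent.Lib.Helper6.TCD.M11a
noncomputable def SH (i : Nat) : Nat := Nat.land (Nat.shiftRight 0x3a0000c000076000180000d8000200001b800048000390000c000062000120000b80001c00019800058000340000b00005e000120000f0000000001e0000000003c00000000052000100000a00001400012000018000320000b0000700001800009400014000180000580002100008000044000100000a8000280001a800060000200000300005a000160000780000c0000a80001000016000030000300000e000064000080000e00002800011000060000200000c00003c000080000d8000300000d0000100004c000120000b000020000138000500000b00001000078000000000f0000000001e0000000003c0000000003a0000e00008c000240000b800038000090000100003e0001000004c000040000d00003000007000010000280000e00003800018000060000280000a0000400001000006000018000080000280000000003000000000040000000000400000000000000000000400001 (Nat.mul 43 (Nat.land i 1023))) 8796093022207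
end Cfsg.Agent.Lib.Helper6.TCD.M11a
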